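import Groth.Agent.L21.NodeFrob.Alg
import Groth.Agent.L21.TFNodal.NodePush
import Groth.Agent.L21.NormRed.Coker
import Groth.Agent.L21.Disc.Hurwitz
import Groth.Agent.L21.Nodal.Reduced

/-!
Local sections of `π_* O'` modulo `O`, under the Frobenius, for the normalisation of a nodal curve.
-/

set_option autoImplicit false
set_option linter.style.haveILetI false
set_option backward.isDefEq.respectTransparency false

universe u

open AlgebraicGeometry CategoryTheory CategoryTheory.Limits TopologicalSpace IsLocalRing
attribute [local instance] Curv2.resAlgebra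

noncomputable section

namespace Groth.L21.NodeFrob

variable (k : Type u) [Field k] [IsAlgClosed k] {X : Scheme.{u}} [X.Over (Spec (CommRingCat.of k))]
  [IsProper (X ↘ Spec (CommRingCat.of k))] [IsReduced X]
  (hdim : ∀ Z ∈ irreducibleComponents (X : Type u), topologicalKrullDim Z = 1)

include hdim in
/-- A node has two branches. -/
theorem numBranches_of_isNode {x : X} (hx : Curv2.IsNode k X x) :
    Brnch.numBranches (X.presheaf.stalk x) = 2 := by
  haveI := Groth.L21.RR.isNoetherian_of_proper (X := X) k
  obtain ⟨z, hz⟩ := Groth.L21.Nodal.bcFst_surjective (k := k) (X := X) k x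
  have hodp := Groth.L21.Nodal.odpAt_of_isNode (k := k) k x hx z hz
  haveI : IsLocallyNoetherian (Curv2.bc k X k) := LocallyOfFiniteType.isLocallyNoetherian (Curv2.bcSnd k X k)
  haveI : IsIso (Spec.map (CommRingCat.ofHom (algebraMap k k))) :=
    inferInstanceAs (IsIso (Spec.map (𝟙 (CommRingCat.of k))))
  haveI : IsIso (Curv2.bcFst k X k) := inferInstanceAs (IsIso (pullback.fst _ _))
  letI : (Curv2.bc k X k).Over (Spec (CommRingCat.of k)) := ⟨Curv2.bcSnd k X k⟩
  letI := Curv2.stalkAlgebra k (Curv2.bc k X k) z
  obtain ⟨ψ, -⟩ : Curv2.IsOrdDoublePt k ((Curv2.bc k X k).presheaf.stalk z) := hodp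
  subst hz
  let φ : X.presheaf.stalk (Curv2.bcFst k X k z) ≃+* (Curv2.bc k X k).presheaf.stalk z :=
    (asIso ((Curv2.bcFst k X k).stalkMap z)).commRingCatIsoToRingEquiv
  letI := φ.toRingHom.toAlgebra
  haveI : Module.Flat (X.presheaf.stalk (Curv2.bcFst k X k z)) ((Curv2.bc k X k).presheaf.stalk z) :=
    Flat.stalkMap (Curv2.bcFst k X k) z
  haveI : IsLocalHom (algebraMap (X.presheaf.stalk (Curv2.bcFst k X k z)) ((Curv2.bc k X k).presheaf.stalk z)) :=
    inferInstanceAs (IsLocalHom ((Curv2.bcFst k X k).stalkMap z).hom)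
  obtain ⟨e, -⟩ := Groth.L21.Nodal.exists_completion_equiv
    (A := X.presheaf.stalk (Curv2.bcFst k X k z)) (B := (Curv2.bc k X k).presheaf.stalk z)
    (le_antisymm (IsLocalRing.map_maximalIdeal_le _) fun b hb => by
      have : b = φ (φ.symm b) := (φ.apply_symm_apply b).symm
      rw [this]
      refine Ideal.mem_map_of_mem _ ?_
      rw [IsLocalRing.mem_maximalIdeal, mem_nonunits_iff] at hb ⊢
      exact fun h => hb (this ▸ h.map φ))
    fun b => ⟨φ.symm b, by
      rw [show algebraMap _ ((Curv2.bc k X k).presheaf.stalk z) (φ.symm b) = b from φ.apply_symm_apply b, sub_self]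
      exact Ideal.zero_mem _⟩
  have hJ : Ideal.span {(MvPowerSeries.X 0 * MvPowerSeries.X 1 : MvPowerSeries (Fin 2) k)} =
      Groth.L06.Multicross.J k 2 := by
    refine le_antisymm (Ideal.span_le.2 (Set.singleton_subset_iff.2
      (Ideal.subset_span ⟨0, 1, by decide, rfl⟩))) (Ideal.span_le.2 ?_)
    rintro _ ⟨i, j, hij, rfl⟩
    fin_cases i <;> fin_cases j <;> first | exact absurd rfl hij | skip
    · exact Ideal.mem_span_singleton_self _
    · rw [SetLike.mem_coe, mul_comm]; exact Ideal.mem_span_singleton_self _
  exact (Groth.L06.Multicross.numBranches_and_deltaInv (X.presheaf.stalk (Curv2.bcFst k X k z))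
    (Groth.L06.Multicross.ringKrullDim_stalk_eq_one k hdim hx.1)
    (Groth.L06.Multicross.isNagata_stalk' k (X := X) _) k 2
    (e.trans (ψ.trans (Ideal.quotEquivOfEq hJ)))).2.1

/-- Frobenius modulo the ring: injectivity and surjectivity. -/
def FrobBij (p : ℕ) (A N : Type u) [CommRing A] [CommRing N] [Algebra A N] : Prop :=
  (∀ b : N, b ^ p ∈ (algebraMap A N).range → b ∈ (algebraMap A N).range) ∧
    ∀ b : N, ∃ (c : N) (a : A), b = c ^ p + algebraMap A N a

set_option maxHeartbeats 800000 in
include hdim in
theorem frobBij_stalk (p : ℕ) [Fact p.Prime] [CharP k p] (hnod : Curv2.AtWorstNodal k X) (x : X) :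
    FrobBij p (X.presheaf.stalk x) (integralClosure (X.presheaf.stalk x) (FractionRing (X.presheaf.stalk x))) := by
  haveI := Groth.L21.RR.isNoetherian_of_proper (X := X) k
  have hd := Groth.L21.NormRed.dim_le_one_of_components hdim
  by_cases hn : Curv2.IsNode k X x
  · have hc : IsClosed ({x} : Set X) := hn.1
    haveI := Groth.L22.Norm.finite_integralClosure (X.presheaf.stalk x)
      (Groth.L06.Multicross.isNagata_stalk' k (X := X) x)
    obtain ⟨M₁, M₂, h1, h2, hne⟩ := two_maximal_of_numBranches _ (numBranches_of_isNode k hdim hn)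
    haveI := Groth.L21.Disc.finite_residueField_of_isClosed k hc
    have hbij : Function.Bijective (algebraMap k (X.residueField x)) :=
      IsAlgClosed.algebraMap_bijective_of_isIntegral
    haveI : IsAlgClosed (ResidueField (X.presheaf.stalk x)) :=
      IsAlgClosed.of_ringEquiv k _ (RingEquiv.ofBijective (algebraMap k (X.residueField x)) hbij)
    haveI : CharP (ResidueField (X.presheaf.stalk x)) p :=
      charP_of_injective_ringHom (f := algebraMap k (X.residueField x)) hbij.1 p
    letI := Curv2.stalkAlgebra k X x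
    haveI : CharP (X.presheaf.stalk x) p :=
      charP_of_injective_ringHom (f := algebraMap k (X.presheaf.stalk x)) (RingHom.injective _) p
    exact frob_quot p (Groth.L21.NormRed.deltaInv_of_isNode k hdim hn) M₁ M₂ hne
  · have h0 : Curv2.deltaInv (X.presheaf.stalk x) = 0 := by
      by_cases hc : IsClosed ({x} : Set X)
      · exact Groth.L21.NormRed.deltaInv_eq_zero_of_not_isNode k hnod hc hn
      · haveI : IsDomain (X.presheaf.stalk x) := by
          refine (Groth.L21.Nodal.isField_stalk_of_maximal x fun g hg => ?_).isDomain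
          obtain ⟨z, hxz, hne⟩ : ∃ z, x ⤳ z ∧ x ≠ z := by
            by_contra hh
            push Not at hh
            exact hc (isClosed_of_closure_subset fun z hz => (hh z (specializes_iff_mem_closure.2 hz)).symm)
          exact (Groth.L21.RR.Top.spec_of_dim_le_one (X := X.toTopCat) hd g x z hg hxz).resolve_right hne
        haveI : IsIntegrallyClosed (X.presheaf.stalk x) := by
          letI := (Groth.L21.Nodal.isField_stalk_of_maximal x fun g hg => by
            obtain ⟨z, hxz, hne⟩ : ∃ z, x ⤳ z ∧ x ≠ z := by
              by_contra hh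
              push Not at hh
              exact hc (isClosed_of_closure_subset fun z hz => (hh z (specializes_iff_mem_closure.2 hz)).symm)
            exact (Groth.L21.RR.Top.spec_of_dim_le_one (X := X.toTopCat) hd g x z hg hxz).resolve_right hne).toField
          infer_instance
        exact Groth.L21.NormRed.deltaInv_eq_zero_of_isIntegrallyClosed _
    rw [Curv2.deltaInv, Module.length_eq_zero_iff, Submodule.Quotient.subsingleton_iff] at h0
    have hs : ∀ b, b ∈ (algebraMap (X.presheaf.stalk x)
        (integralClosure (X.presheaf.stalk x) (FractionRing (X.presheaf.stalk x)))).range := fun b => by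
      obtain ⟨a, ha⟩ := LinearMap.mem_range.1 (h0 ▸ (Submodule.mem_top (x := b)))
      exact ⟨a, ha⟩
    refine ⟨fun b _ => hs b, fun b => ?_⟩
    obtain ⟨a, ha⟩ := hs b
    exact ⟨0, a, by rw [ha, zero_pow (Fact.out : p.Prime).ne_zero, zero_add]⟩

end Groth.L21.NodeFrob
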