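import Groth.Agent.L22.Norm.GeomBranch
import Mathlib.FieldTheory.Perfect
import Mathlib.RingTheory.Ideal.Quotient.Operations
import Mathlib.RingTheory.Length
import Mathlib.RingTheory.Nakayama
import Mathlib.RingTheory.Artinian.Module

/-!
The Frobenius on `N/A` for a finite extension `A ⊆ N` of length one with two points over the closed point.
-/

set_option autoImplicit false
set_option linter.style.haveILetI false
set_option backward.isDefEq.respectTransparency false

universe u

open IsLocalRing

noncomputable section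

namespace Groth.L21.NodeFrob

/-- The normalisation of the reduction of a reduced ring, as a ring. -/
theorem exists_normRed_ringEquiv (A : Type u) [CommRing A] [IsReduced A] :
    Nonempty (integralClosure A (FractionRing A) ≃+* CAlg2.normRed A) := by
  have hbij : Function.Bijective (IsScalarTower.toAlgHom A A (CAlg2.red A)) := by
    refine ⟨?_, Ideal.Quotient.mk_surjective⟩
    exact RingHom.injective_iff_ker_eq_bot (Ideal.Quotient.mk (nilradical A)) |>.2
      (Ideal.mk_ker.trans (nilradical_eq_zero A))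
  let r : A ≃+* CAlg2.red A := RingEquiv.ofBijective (Ideal.Quotient.mk (nilradical A)) hbij
  haveI : IsFractionRing A (FractionRing (CAlg2.red A)) := by
    have h1 := IsLocalization.isLocalization_of_base_ringEquiv (nonZeroDivisors (CAlg2.red A))
      (FractionRing (CAlg2.red A)) r.symm
    have h2 : (nonZeroDivisors (CAlg2.red A)).map (r.symm : CAlg2.red A →* A) = nonZeroDivisors A :=
      MulEquivClass.map_nonZeroDivisors r.symm
    convert! h2 ▸ h1 using 1
    exact Algebra.algebra_ext _ _ fun a => rfl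
  let g : FractionRing A ≃ₐ[A] FractionRing (CAlg2.red A) :=
    IsLocalization.algEquiv (nonZeroDivisors A) _ _
  haveI : Algebra.IsIntegral A (CAlg2.red A) :=
    ⟨RingHom.isIntegral_of_surjective _ Ideal.Quotient.mk_surjective⟩
  exact ⟨{ toFun := fun z => ⟨g z, (z.2.map g.toAlgHom).tower_top⟩
           map_add' := fun x y => Subtype.ext (map_add g _ _)
           map_mul' := fun x y => Subtype.ext (map_mul g _ _)
           invFun := fun z => ⟨g.symm z, (isIntegral_trans (R := A) z.1 z.2).map g.symm.toAlgHom⟩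
           left_inv := fun z => Subtype.ext (g.symm_apply_apply z.1)
           right_inv := fun z => Subtype.ext (g.apply_symm_apply z.1) }⟩

theorem two_maximal_of_numBranches (A : Type u) [CommRing A] [IsLocalRing A] [IsReduced A]
    (h : Brnch.numBranches A = 2) :
    ∃ M₁ M₂ : Ideal (integralClosure A (FractionRing A)), M₁.IsMaximal ∧ M₂.IsMaximal ∧ M₁ ≠ M₂ := by
  classical
  obtain ⟨e⟩ := exists_normRed_ringEquiv A
  rw [Brnch.numBranches] at h
  by_cases hf : (minimalPrimes A).Finite
  · rw [if_pos hf] at h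
    obtain ⟨a, b, hab⟩ := (ENat.one_lt_card_iff_nontrivial (α := MaximalSpectrum (CAlg2.normRed A))).1
      (by rw [h]; decide) |>.exists_pair_ne
    haveI := a.isMaximal
    haveI := b.isMaximal
    refine ⟨a.asIdeal.comap e.toRingHom, b.asIdeal.comap e.toRingHom,
      Ideal.comap_isMaximal_of_equiv e, Ideal.comap_isMaximal_of_equiv e, fun hh => hab (MaximalSpectrum.ext ?_)⟩
    exact Ideal.comap_injective_of_surjective e.toRingHom e.surjective hh
  · rw [if_neg hf] at h
    exact absurd h (by decide)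

variable {A N : Type u} [CommRing A] [IsLocalRing A] [CommRing N] [Algebra A N] [Module.Finite A N]

/-- Frobenius is bijective on `N/A`. -/
theorem frob_quot (p : ℕ) [Fact p.Prime] [CharP A p] [CharP (ResidueField A) p] [PerfectRing (ResidueField A) p]
    (hlen : Module.length A (N ⧸ LinearMap.range (Algebra.linearMap A N)) = 1)
    (M₁ M₂ : Ideal N) [h1 : M₁.IsMaximal] [h2 : M₂.IsMaximal] (hne : M₁ ≠ M₂) :
    (∀ b : N, b ^ p ∈ (algebraMap A N).range → b ∈ (algebraMap A N).range) ∧
      ∀ b : N, ∃ (c : N) (a : A), b = c ^ p + algebraMap A N a := by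
  haveI hsimp : IsSimpleModule A (N ⧸ LinearMap.range (Algebra.linearMap A N)) :=
    Module.length_eq_one_iff.1 hlen
  let W := LinearMap.range (Algebra.linearMap A N)
  -- the maximal ideal multiplies `N` into `A`
  have hm : ∀ a ∈ maximalIdeal A, ∀ b : N, algebraMap A N a * b ∈ (algebraMap A N).range := by
    have hann : (maximalIdeal A) • (⊤ : Submodule A (N ⧸ W)) = ⊥ := by
      rcases eq_bot_or_eq_top ((maximalIdeal A) • (⊤ : Submodule A (N ⧸ W))) with h | h
      · exact h
      · exfalso
        have := Submodule.eq_bot_of_le_smul_of_le_jacobson_bot (maximalIdeal A) (⊤ : Submodule A (N ⧸ W))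
          Module.Finite.fg_top h.ge (maximalIdeal_le_jacobson ⊥)
        exact top_ne_bot this
    intro a ha b
    have hz : a • W.mkQ b = 0 := (Submodule.eq_bot_iff _).1 hann _ (Submodule.smul_mem_smul ha trivial)
    rw [← map_smul, Submodule.mkQ_apply, Submodule.Quotient.mk_eq_zero, LinearMap.mem_range] at hz
    obtain ⟨r, hr⟩ := hz
    exact ⟨r, hr.trans (Algebra.smul_def a b)⟩
  haveI : Algebra.IsIntegral A N := Algebra.IsIntegral.of_finite A N
  have hlie : ∀ (M : Ideal N) [M.IsMaximal], ∀ a, algebraMap A N a ∈ M ↔ a ∈ maximalIdeal A := fun M _ a => by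
    rw [← eq_maximalIdeal (Ideal.isMaximal_comap_of_isIntegral_of_isMaximal (R := A) M)]
    rfl
  -- an element of `M₁` outside `M₂`
  obtain ⟨e, he1, he2⟩ := SetLike.not_le_iff_exists.1 fun h : M₁ ≤ M₂ => hne (h1.eq_of_le h2.ne_top h)
  have heN : e ∉ (algebraMap A N).range := by
    rintro ⟨a, rfl⟩
    exact he2 ((hlie M₂ a).2 ((hlie M₁ a).1 he1))
  -- `N = A + A e`
  have hgen : ∀ b : N, ∃ a c : A, b = algebraMap A N a + algebraMap A N c * e := fun b => by
    have he0 : W.mkQ e ≠ 0 := fun h => heN ((Submodule.Quotient.mk_eq_zero W).1 h)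
    have ht := IsSimpleModule.span_singleton_eq_top (R := A) he0
    obtain ⟨c, hc⟩ := Submodule.mem_span_singleton.1 (show W.mkQ b ∈ Submodule.span A {W.mkQ e} from ht ▸ trivial)
    rw [← map_smul, Submodule.mkQ_apply, Submodule.mkQ_apply, Submodule.Quotient.eq, LinearMap.mem_range] at hc
    obtain ⟨a, ha⟩ := hc
    refine ⟨-a, c, ?_⟩
    rw [Algebra.linearMap_apply, Algebra.smul_def] at ha
    rw [map_neg, ha]
    ring
  have hp : p ≠ 0 := (Fact.out : p.Prime).ne_zero
  -- the residue classes at `M₁`, `M₂` detect `A`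
  have key : ∀ a c : A, algebraMap A N a + algebraMap A N c * e ∈ (algebraMap A N).range ↔ c ∈ maximalIdeal A := by
    refine fun a c => ⟨fun ⟨r, hr⟩ => ?_, fun hc => add_mem ⟨a, rfl⟩ (hm c hc e)⟩
    have hrc : algebraMap A N (r - a) = algebraMap A N c * e := by rw [map_sub, hr]; ring
    have hra := (hlie M₁ _).1 (hrc ▸ M₁.mul_mem_left _ he1)
    by_contra hc
    have hu : IsUnit c := not_not.1 hc
    exact he2 ((Ideal.IsPrime.mul_mem_iff_mem_or_mem (by exact h2.isPrime)).1
      (show algebraMap A N c * e ∈ M₂ from hrc ▸ (hlie M₂ _).2 hra) |>.resolve_left fun h => hc ((hlie M₂ c).1 h))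
  -- modulo `A`, powers of `e` are units times `e`
  obtain ⟨a₀, c₀, hec⟩ := hgen (e ^ p)
  have hc₀ : c₀ ∉ maximalIdeal A := fun hc => by
    obtain ⟨r, hr⟩ := (key a₀ c₀).2 hc
    have hm1 : e ^ p ∈ M₁ := Ideal.pow_mem_of_mem _ he1 _ (Fact.out : p.Prime).pos
    rw [hec, ← hr, hlie M₁, ← hlie M₂, hr, ← hec] at hm1
    exact he2 (h2.isPrime.mem_of_pow_mem _ hm1)
  have hF : ∀ a c : A, ∃ r, (algebraMap A N a + algebraMap A N c * e) ^ p =
      algebraMap A N r + algebraMap A N (c ^ p * c₀) * e := fun a c => by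
    refine ⟨a ^ p + c ^ p * a₀, ?_⟩
    rcases subsingleton_or_nontrivial N with hN | hN
    · exact Subsingleton.elim _ _
    haveI : CharP N p := (CharP.charP_iff_prime_eq_zero Fact.out).2
      (by rw [← map_natCast (algebraMap A N), CharP.cast_eq_zero, map_zero])
    rw [add_pow_char, mul_pow, hec, map_add, map_mul, map_mul, map_pow, map_pow]
    ring
  refine ⟨fun b hb => ?_, fun b => ?_⟩
  · obtain ⟨a, c, rfl⟩ := hgen b
    obtain ⟨r, hr⟩ := hF a c
    rw [hr, key] at hb
    rcases (Ideal.IsPrime.mul_mem_iff_mem_or_mem (by infer_instance)).1 hb with h | h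
    · exact (key a c).2 ((IsLocalRing.maximalIdeal.isMaximal A).isPrime.mem_of_pow_mem _ h)
    · exact absurd h hc₀
  · obtain ⟨a, c, rfl⟩ := hgen b
    -- solve `d^p c₀ ≡ c`
    obtain ⟨v, hv⟩ := (not_not.1 hc₀ : IsUnit c₀)
    obtain ⟨dbar, hd⟩ := (PerfectRing.bijective_frobenius (R := ResidueField A) (p := p)).2
      (residue A (c * (↑v⁻¹ : A)))
    obtain ⟨d, rfl⟩ := residue_surjective dbar
    replace hd : residue A (d ^ p) = residue A (c * (↑v⁻¹ : A)) := (map_pow _ _ _).trans hd
    have hdc : c - d ^ p * c₀ ∈ maximalIdeal A := by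
      rw [← residue_eq_zero_iff, map_sub, map_mul, hd, map_mul, mul_assoc, ← map_mul, ← hv, Units.inv_mul,
        map_one, mul_one, sub_self]
    obtain ⟨r, hr⟩ := hF 0 d
    obtain ⟨s, hs⟩ := hm _ hdc e
    refine ⟨algebraMap A N 0 + algebraMap A N d * e, a - r + s, ?_⟩
    rw [hr, map_add, map_sub, hs, map_sub]
    ring

end Groth.L21.NodeFrob
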