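import Groth.Agent.L21.RR.TopVanish
import Mathlib.Algebra.Homology.DerivedCategory.Ext.ExtClass

/-!
The five lemma for an endomorphism of a short exact sequence with bijective action on the quotient.
-/

set_option autoImplicit false
set_option linter.style.haveILetI false
set_option backward.isDefEq.respectTransparency false

universe u

open CategoryTheory CategoryTheory.Limits CategoryTheory.Abelian TopologicalSpace

noncomputable section

namespace Groth.L21.NodeFrob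

variable {X : TopCat.{u}} {S : ShortComplex (CohTop.Ab X)} (hS : S.ShortExact) (g : S ⟶ S) [IsIso g.τ₃]

include hS in
theorem bijective_H1_iff (h3 : Subsingleton (CohTop.H S.X₃ 1))
    (h0 : Function.Surjective (Sheaf.H.map g.τ₂ 0)) :
    Function.Bijective (Sheaf.H.map g.τ₁ 1) ↔ Function.Bijective (Sheaf.H.map g.τ₂ 1) := by
  have h30 : Function.Bijective (Sheaf.H.map g.τ₃ 0) := by
    refine Function.bijective_iff_has_inverse.2 ⟨Sheaf.H.map (inv g.τ₃) 0, fun x => ?_, fun x => ?_⟩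
    · rw [← Sheaf.H.map_comp_apply, IsIso.hom_inv_id, Sheaf.H.map_id_apply]
    · rw [← Sheaf.H.map_comp_apply, IsIso.inv_hom_id, Sheaf.H.map_id_apply]
  let f₁ : CohTop.H S.X₁ 1 → CohTop.H S.X₂ 1 := fun x => Sheaf.H.map S.f 1 x
  let g₀ : CohTop.H S.X₂ 0 → CohTop.H S.X₃ 0 := fun x => Sheaf.H.map S.g 0 x
  let δ : CohTop.H S.X₃ 0 → CohTop.H S.X₁ 1 := fun z => Ext.comp z hS.extClass (zero_add 1)
  have hδ : ∀ z, Sheaf.H.map g.τ₁ 1 (δ z) = δ (Sheaf.H.map g.τ₃ 0 z) := fun z => by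
    show Ext.comp (Ext.comp z hS.extClass (zero_add 1)) (Ext.mk₀ g.τ₁) (add_zero 1) =
      Ext.comp (Ext.comp z (Ext.mk₀ g.τ₃) (add_zero 0)) hS.extClass (zero_add 1)
    rw [Ext.comp_assoc_of_third_deg_zero, ShortComplex.ShortExact.extClass_naturality hS hS g,
      Ext.comp_assoc_of_second_deg_zero]
  have hf : ∀ x, Sheaf.H.map g.τ₂ 1 (f₁ x) = f₁ (Sheaf.H.map g.τ₁ 1 x) := fun x => by
    show Sheaf.H.map _ 1 (Sheaf.H.map _ 1 x) = Sheaf.H.map _ 1 (Sheaf.H.map _ 1 x)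
    rw [← Sheaf.H.map_comp_apply, ← Sheaf.H.map_comp_apply, g.comm₁₂]
  have hg : ∀ x, Sheaf.H.map g.τ₃ 0 (g₀ x) = g₀ (Sheaf.H.map g.τ₂ 0 x) := fun x => by
    show Sheaf.H.map _ 0 (Sheaf.H.map _ 0 x) = Sheaf.H.map _ 0 (Sheaf.H.map _ 0 x)
    rw [← Sheaf.H.map_comp_apply, ← Sheaf.H.map_comp_apply, g.comm₂₃]
  have e₁ : ∀ x, f₁ x = 0 → ∃ z, δ z = x := fun x hx => Ext.covariant_sequence_exact₁ _ hS x hx (zero_add 1)
  have e₃ : ∀ z, δ z = 0 → ∃ y, g₀ y = z := fun z hz => Ext.covariant_sequence_exact₃ _ hS z (zero_add 1) hz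
  have e₂ : ∀ y, ∃ x, f₁ x = y := fun y => Ext.covariant_sequence_exact₂ _ hS y (h3.elim _ _)
  have hfδ : ∀ z, f₁ (δ z) = 0 := fun z => by
    show Ext.comp (Ext.comp z hS.extClass (zero_add 1)) (Ext.mk₀ S.f) (add_zero 1) = 0
    rw [Ext.comp_assoc_of_third_deg_zero, hS.extClass_comp, Ext.comp_zero]
  have hgδ : ∀ y, δ (g₀ y) = 0 := fun y => by
    show Ext.comp (Ext.comp y (Ext.mk₀ S.g) (add_zero 0)) hS.extClass (zero_add 1) = 0
    rw [Ext.comp_assoc_of_second_deg_zero, hS.comp_extClass, Ext.comp_zero]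
  have f0 : f₁ 0 = 0 := map_zero (Sheaf.H.map S.f 1)
  have fsub : ∀ a b, f₁ (a - b) = f₁ a - f₁ b := map_sub (Sheaf.H.map S.f 1)
  have δ0 : δ 0 = 0 := Ext.zero_comp ..
  constructor
  · refine fun h => ⟨(injective_iff_map_eq_zero _).2 fun y hy => ?_, fun y => ?_⟩
    · obtain ⟨x, rfl⟩ := e₂ y
      rw [hf] at hy
      obtain ⟨z, hz⟩ := e₁ _ hy
      obtain ⟨z, rfl⟩ := h30.2 z
      rw [← hδ] at hz
      rw [← h.1 hz, hfδ]
    · obtain ⟨x, rfl⟩ := e₂ y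
      obtain ⟨x, rfl⟩ := h.2 x
      exact ⟨f₁ x, hf x⟩
  · refine fun h => ⟨(injective_iff_map_eq_zero _).2 fun x hx => ?_, fun x => ?_⟩
    · have h1 : f₁ x = 0 := h.1 (by rw [hf, hx, f0, map_zero])
      obtain ⟨z, rfl⟩ := e₁ x h1
      rw [hδ] at hx
      obtain ⟨y, hy⟩ := e₃ _ hx
      obtain ⟨y, rfl⟩ := h0 y
      rw [← hg] at hy
      rw [← h30.1 hy, hgδ]
    · obtain ⟨y, hy⟩ := h.2 (f₁ x)
      obtain ⟨x', rfl⟩ := e₂ y
      rw [hf] at hy
      obtain ⟨z, hz⟩ := e₁ (x - Sheaf.H.map g.τ₁ 1 x') (by rw [fsub, hy, sub_self])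
      obtain ⟨z, rfl⟩ := h30.2 z
      refine ⟨x' + δ z, ?_⟩
      rw [map_add, hδ, hz]
      abel

end Groth.L21.NodeFrob
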