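import Groth.Agent.L21.NodeFrob.Quot
import Groth.Agent.L21.NodeFrob.Five
import Groth.Agent.L16.PushEdge

/-!
Ordinary nodal curves: Frobenius on `H¹(O)` against Frobenius on `H¹` of the normalisation.
-/

set_option autoImplicit false
set_option linter.style.haveILetI false
set_option backward.isDefEq.respectTransparency false

universe u

open AlgebraicGeometry CategoryTheory CategoryTheory.Limits TopologicalSpace Opposite

noncomputable section

namespace Groth.L21.NodeFrob

variable (k : Type u) [Field k] [IsAlgClosed k]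

theorem surjective_frob_H0 (p : ℕ) (hp : 0 < p) {Y : Scheme.{u}} [Y.Over (Spec (CommRingCat.of k))]
    [IsProper (Y ↘ Spec (CommRingCat.of k))] [IsReduced Y] [IsLocallyNoetherian Y]
    (ψ : Coh.toAb (Coh.structureModule Y) ⟶ Coh.toAb (Coh.structureModule Y))
    (hψ : ∀ (V : Y.Opens) (s : Γ(Y, V)), (ψ.hom.app (op V)).hom s = s ^ p) :
    Function.Surjective (Sheaf.H.map ψ 0) := by
  intro z
  let E := Groth.L21.RR.e0 (Coh.structureModule Y)
  obtain ⟨v, hv⟩ := Groth.L21.NormRed.exists_locally_constant k (X := Y) (E z)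
  have hr : ∀ C, ∃ w : k, w ^ p = v C := fun C => IsAlgClosed.exists_pow_nat_eq _ hp
  choose w hw using hr
  obtain ⟨a, ha⟩ := Groth.L21.NormRed.exists_glue k (X := Y) w
  have hpow : a ^ p = (show Γ(Y, ⊤) from E z) := Groth.L21.NormRed.gx_ext _ _ fun x => by
    rw [map_pow, ha, ← map_pow, ← map_pow, hw]
    exact (hv x).symm
  refine ⟨E.symm a, E.injective ?_⟩
  refine ((Sheaf.H.equiv₀_naturality
    (Limits.IsTerminal.ofUniqueHom (fun U => homOfLE le_top) (fun _ _ => Subsingleton.elim _ _)) ψ (E.symm a)).symm.trans ?_)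
  show (ψ.hom.app (op ⊤)).hom (E (E.symm a)) = _
  rw [AddEquiv.apply_symm_apply]
  exact (hψ ⊤ a).trans hpow

variable {X X' : Scheme.{u}} [X.Over (Spec (CommRingCat.of k))] [IsProper (X ↘ Spec (CommRingCat.of k))]
  [IsReduced X] (π : X' ⟶ X) [IsFinite π] (hX' : Pi1.IsNormalScheme X') {U : X.Opens}
  (hU : Dense (U : Set X)) (hU' : Dense ((π ⁻¹ᵁ U : X'.Opens) : Set X')) [IsIso (π ∣_ U)]

include hX' hU hU' in
set_option maxHeartbeats 800000 in
theorem bijective_frob_iff (p : ℕ) [Fact p.Prime] [CharP k p]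
    (hdim : ∀ Z ∈ irreducibleComponents (X : Type u), topologicalKrullDim Z = 1)
    (hnod : Curv2.AtWorstNodal k X)
    (φ : Coh.toAb (Coh.structureModule X) ⟶ Coh.toAb (Coh.structureModule X))
    (hφ : ∀ (V : X.Opens) (s : Γ(X, V)), (φ.hom.app (op V)).hom s = s ^ p)
    (φ' : Coh.toAb (Coh.structureModule X') ⟶ Coh.toAb (Coh.structureModule X'))
    (hφ' : ∀ (V : X'.Opens) (s : Γ(X', V)), (φ'.hom.app (op V)).hom s = s ^ p) :
    Function.Bijective (Sheaf.H.map φ 1) ↔ Function.Bijective (Sheaf.H.map φ' 1) := by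
  haveI := Groth.L21.RR.isNoetherian_of_proper (X := X) k
  haveI : IsLocallyNoetherian X' := LocallyOfFiniteType.isLocallyNoetherian π
  haveI := Groth.L21.NormRed.isReduced_of_normal hX'
  letI : X'.Over (Spec (CommRingCat.of k)) := ⟨π ≫ (X ↘ Spec (CommRingCat.of k))⟩
  haveI : IsProper (X' ↘ Spec (CommRingCat.of k)) :=
    inferInstanceAs (IsProper (π ≫ (X ↘ Spec (CommRingCat.of k))))
  have hd := Groth.L21.NormRed.dim_le_one_of_components hdim
  have hp := (Fact.out : p.Prime)
  haveI : Coh.IsQCoh (Coh.structureModule X') := Groth.L16.CohClosedPush.isCoh_structure.1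
  have hS := shortExact_fAb π hU
  haveI hiso := isIso_qQ π φ φ' hφ hφ' hX' hU hU' hp.ne_zero (frobBij_stalk k hdim p hnod)
  let S := ShortComplex.mk (fAb π) (cokernel.π (fAb π)) (cokernel.condition _)
  let g : S ⟶ S :=
    { τ₁ := φ
      τ₂ := psiB π φ'
      τ₃ := qQ π φ φ' hφ hφ'
      comm₁₂ := comm π φ φ' hφ hφ'
      comm₂₃ := (cokernel.π_desc _ _ _).symm }
  haveI : IsIso g.τ₃ := hiso
  -- the cohomology of the pushforward
  let e : ∀ n, Sheaf.H (Coh.toAb ((Coh.push π).obj (Coh.structureModule X'))) n → Coh.HH X' (Coh.structureModule X') n :=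
    fun n => Groth.L16.PushEdge.edge (X := X'.toTopCat) (Y := X.toTopCat) π.base (Coh.toAb (Coh.structureModule X')) n
  have he : ∀ n, Function.Bijective (e n) := fun n =>
    Groth.L16.PushEdge.edge_bijective (X := X'.toTopCat) (Y := X.toTopCat) π.base n _
      (Groth.L17.locAcyclic_of_isAffineHom π (Coh.structureModule X'))
  have hnat : ∀ n x, e n (Sheaf.H.map (psiB π φ') n x) = Sheaf.H.map φ' n (e n x) := fun n x =>
    Groth.L16.PushEdge.edge_natural (X := X'.toTopCat) (Y := X.toTopCat) π.base φ' n x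
  have h3 : Subsingleton (CohTop.H (X := X.toTopCat) S.X₃ 1) := by
    haveI : IsClosedImmersion (π ∣_ U) := inferInstance
    have hs := Groth.L21.RR.suppClosed_cokernel_unitToPush (f := π) hd hU
    haveI := Groth.L21.NormRed.mono_unitToPush π hU
    have hS' : (ShortComplex.mk (ClSub.unitToPush π) (cokernel.π (ClSub.unitToPush π))
        (cokernel.condition _)).ShortExact := { exact := ShortComplex.exact_cokernel _ }
    have hS'' := hS'.map_of_exact (SheafOfModules.toSheaf X.ringCatSheaf)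
    let i : cokernel (fAb π) ≅ Coh.toAb (cokernel (ClSub.unitToPush π)) :=
      (cokernelIsCokernel (fAb π)).coconePointUniqueUpToIso hS''.gIsCokernel
    haveI := Groth.L21.RR.subsingleton_HH_of_suppClosed hs 0
    exact Equiv.subsingleton (α := CohTop.H (X := X.toTopCat) S.X₃ 1)
      (Equiv.ofBijective (Sheaf.H.map i.hom 1) (Function.bijective_iff_has_inverse.2
        ⟨Sheaf.H.map i.inv 1, fun x => by rw [← Sheaf.H.map_comp_apply, i.hom_inv_id, Sheaf.H.map_id_apply],
          fun x => by rw [← Sheaf.H.map_comp_apply, i.inv_hom_id, Sheaf.H.map_id_apply]⟩))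
  have h0 : Function.Surjective (Sheaf.H.map (psiB π φ') 0) := fun y => by
    obtain ⟨z, hz⟩ := surjective_frob_H0 k p hp.pos φ' hφ' (e 0 y)
    obtain ⟨z, rfl⟩ := (he 0).2 z
    exact ⟨z, (he 0).1 ((hnat 0 z).trans hz)⟩
  refine (bijective_H1_iff (X := X.toTopCat) hS g h3 h0).trans ?_
  show Function.Bijective (Sheaf.H.map (psiB π φ') 1) ↔ _
  refine ⟨fun h => ?_, fun h => ?_⟩
  · refine (Function.Bijective.of_comp_iff _ (he 1)).1 ?_
    rw [show (Sheaf.H.map φ' 1 : _ → _) ∘ e 1 = e 1 ∘ Sheaf.H.map (psiB π φ') 1 from funext fun x => (hnat 1 x).symm]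
    exact (he 1).comp h
  · refine (Function.Bijective.of_comp_iff' (he 1) _).1 ?_
    rw [show e 1 ∘ (Sheaf.H.map (psiB π φ') 1 : _ → _) = Sheaf.H.map φ' 1 ∘ e 1 from funext (hnat 1)]
    exact h.comp (he 1)

end Groth.L21.NodeFrob
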