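import Groth.Agent.L21.NodeFrob.Sections
import Groth.Agent.L21.NormRed.Euler
import Groth.Agent.L21.RR.TopVanish

/-!
Frobenius on the cokernel of `O → π_* O'` is an isomorphism.
-/

set_option autoImplicit false
set_option linter.style.haveILetI false
set_option backward.isDefEq.respectTransparency false

universe u

open AlgebraicGeometry CategoryTheory CategoryTheory.Limits TopologicalSpace Opposite

noncomputable section

namespace Groth.L21.NodeFrob

open Groth.L21.RR.Top (stF)

variable {X X' : Scheme.{u}} (π : X' ⟶ X)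

/-- `O → π_* O'` on abelian sheaves. -/
def fAb : Coh.toAb (Coh.structureModule X) ⟶ Coh.toAb ((Coh.push π).obj (Coh.structureModule X')) :=
  (SheafOfModules.toSheaf X.ringCatSheaf).map (ClSub.unitToPush π)

theorem fAb_app (V : X.Opens) (s : Γ(X, V)) :
    ((fAb π).hom.app (op V)).hom s = (π.app V).hom s := rfl

variable (φ : Coh.toAb (Coh.structureModule X) ⟶ Coh.toAb (Coh.structureModule X))
  (φ' : Coh.toAb (Coh.structureModule X') ⟶ Coh.toAb (Coh.structureModule X'))

/-- The endomorphism of `π_* O'` induced by one of `O'`. -/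
def psiB : Coh.toAb ((Coh.push π).obj (Coh.structureModule X')) ⟶
    Coh.toAb ((Coh.push π).obj (Coh.structureModule X')) :=
  (CohTop.push (X := X'.toTopCat) (Y := X.toTopCat) π.base).map φ'

variable {p : ℕ} (hφ : ∀ (V : X.Opens) (s : Γ(X, V)), (φ.hom.app (op V)).hom s = s ^ p)
  (hφ' : ∀ (V : X'.Opens) (s : Γ(X', V)), (φ'.hom.app (op V)).hom s = s ^ p)

include hφ' in
theorem psiB_app (V : X.Opens) (b : Γ(X', π ⁻¹ᵁ V)) :
    ((psiB π φ').hom.app (op V)).hom b = b ^ p := hφ' (π ⁻¹ᵁ V) b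

include hφ hφ' in
theorem comm : φ ≫ fAb π = fAb π ≫ psiB π φ' := by
  have key : ∀ (V : X.Opens) (s : Γ(X, V)), ((fAb π).hom.app (op V)).hom ((φ.hom.app (op V)).hom s) =
      ((psiB π φ').hom.app (op V)).hom (((fAb π).hom.app (op V)).hom s) := fun V s => by
    refine Eq.trans (congrArg _ (hφ V s)) (Eq.trans ?_ (psiB_app π φ' hφ' V ((π.app V).hom s)).symm)
    exact map_pow (π.app V).hom s p
  refine CategoryTheory.Sheaf.hom_ext (NatTrans.ext (funext fun V => AddCommGrpCat.ext fun s => ?_))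
  obtain ⟨V⟩ := V
  exact key V s

/-- Frobenius on the cokernel. -/
def qQ : cokernel (fAb π) ⟶ cokernel (fAb π) :=
  cokernel.map (fAb π) (fAb π) φ (psiB π φ') (comm π φ φ' hφ hφ').symm

variable [IsFinite π] [IsLocallyNoetherian X] [IsReduced X]
  (hX' : Pi1.IsNormalScheme X') {U : X.Opens}
  (hU : Dense (U : Set X)) (hU' : Dense ((π ⁻¹ᵁ U : X'.Opens) : Set X')) [IsIso (π ∣_ U)]

include hU in
theorem shortExact_fAb : (ShortComplex.mk (fAb π) (cokernel.π (fAb π)) (cokernel.condition _)).ShortExact := by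
  haveI : Mono (fAb π) := by
    haveI := Groth.L21.NormRed.mono_unitToPush π hU
    exact (SheafOfModules.toSheaf X.ringCatSheaf).map_mono (ClSub.unitToPush π)
  exact { exact := ShortComplex.exact_cokernel _ }

set_option maxHeartbeats 1600000 in
include hX' hU hU' in
theorem isIso_qQ (hp : p ≠ 0) (h : ∀ x : X, FrobBij p (X.presheaf.stalk x)
    (integralClosure (X.presheaf.stalk x) (FractionRing (X.presheaf.stalk x)))) :
    IsIso (qQ π φ φ' hφ hφ') := by
  let A := Coh.toAb (Coh.structureModule X)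
  let B := Coh.toAb ((Coh.push π).obj (Coh.structureModule X'))
  let Q := cokernel (fAb π)
  let c : B ⟶ Q := cokernel.π (fAb π)
  have hq : c ≫ qQ π φ φ' hφ hφ' = psiB π φ' ≫ c := cokernel.π_desc _ _ _
  suffices ∀ x : X, Function.Bijective ((stF (X := X.toTopCat) x).map (qQ π φ φ' hφ hφ')) by
    haveI : ∀ x : X.toTopCat, IsIso ((TopCat.Presheaf.stalkFunctor AddCommGrpCat.{u} x).map (qQ π φ φ' hφ hφ').hom) :=
      fun x => (ConcreteCategory.isIso_iff_bijective _).2 (this x)
    exact TopCat.Presheaf.isIso_of_stalkFunctor_map_iso _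
  intro x
  have hex := (shortExact_fAb π hU).map_of_exact (stF (X := X.toTopCat) x)
  have hcs : Function.Surjective ((stF (X := X.toTopCat) x).map c) :=
    (AddCommGrpCat.epi_iff_surjective _).1 hex.epi_g
  have hlift : ∀ v : (stF (X := X.toTopCat) x).obj Q, ∀ W : X.Opens, x ∈ W → ∃ (V : X.Opens) (hx : x ∈ V) (b : Γ(X', π ⁻¹ᵁ V)),
      IsAffineOpen V ∧ V ≤ W ∧ v = ((stF (X := X.toTopCat) x).map c) (TopCat.Presheaf.germ B.obj V x hx b) := by
    intro v W hxW
    obtain ⟨w, rfl⟩ := hcs v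
    obtain ⟨W', hx', b, rfl⟩ := TopCat.Presheaf.exists_germ_eq (F := B.obj) (x := x) w
    obtain ⟨V, hV, hxV, hle⟩ := exists_isAffineOpen_mem_and_subset (x := x) (U := W ⊓ W') ⟨hxW, hx'⟩
    refine ⟨V, hxV, B.obj.map (homOfLE ((show V ≤ W ⊓ W' from hle).trans inf_le_right)).op b, hV,
      (show V ≤ W ⊓ W' from hle).trans inf_le_left, ?_⟩
    exact congrArg _ (TopCat.Presheaf.germ_res_apply _ _ _ _ _).symm
  have hqc : ∀ (V : X.Opens) (hx : x ∈ V) (b : Γ(X', π ⁻¹ᵁ V)),
      ((stF (X := X.toTopCat) x).map (qQ π φ φ' hφ hφ')) (((stF (X := X.toTopCat) x).map c) (TopCat.Presheaf.germ B.obj V x hx b)) =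
        ((stF (X := X.toTopCat) x).map c) (TopCat.Presheaf.germ B.obj V x hx (b ^ p : Γ(X', π ⁻¹ᵁ V))) := fun V hx b => by
    rw [← ConcreteCategory.comp_apply, ← Functor.map_comp, hq, Functor.map_comp, ConcreteCategory.comp_apply]
    refine congrArg _ ((TopCat.Presheaf.stalkFunctor_map_germ_apply V x hx (psiB π φ').hom b).trans ?_)
    exact congrArg (TopCat.Presheaf.germ B.obj V x hx) (psiB_app π φ' hφ' V b)
  have hkill : ∀ (V : X.Opens) (hx : x ∈ V) (r : Γ(X, V)),
      ((stF (X := X.toTopCat) x).map c) (TopCat.Presheaf.germ B.obj V x hx ((π.app V).hom r : Γ(X', π ⁻¹ᵁ V))) = 0 := fun V hx r => by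
    have e := TopCat.Presheaf.stalkFunctor_map_germ_apply V x hx (fAb π).hom r
    erw [fAb_app] at e
    rw [← e]
    have hzero : (stF (X := X.toTopCat) x).map (fAb π) ≫ (stF (X := X.toTopCat) x).map c = 0 := by
      rw [← Functor.map_comp, cokernel.condition, Functor.map_zero]
    exact ConcreteCategory.congr_hom hzero (TopCat.Presheaf.germ A.obj V x hx r)
  refine ⟨(injective_iff_map_eq_zero _).2 fun v hv => ?_, fun v => ?_⟩
  · obtain ⟨W, hxW, b, -, -, rfl⟩ := hlift v ⊤ trivial
    rw [hqc] at hv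
    obtain ⟨w, hw⟩ := (ShortComplex.ab_exact_iff _).1 hex.exact _ hv
    obtain ⟨W', hx', r, rfl⟩ := TopCat.Presheaf.exists_germ_eq (F := A.obj) (x := x) w
    have hw' := (TopCat.Presheaf.stalkFunctor_map_germ_apply W' x hx' (fAb π).hom r).symm.trans hw
    erw [fAb_app] at hw'
    obtain ⟨W₀, hx₀, i, j, he⟩ := TopCat.Presheaf.germ_eq B.obj x hx' hxW _ _ hw'
    obtain ⟨V, hV, hxV, hle⟩ := exists_isAffineOpen_mem_and_subset (x := x) (U := W₀) hx₀
    replace hle : V ≤ W₀ := hle
    let bV : Γ(X', π ⁻¹ᵁ V) := (X'.presheaf.map (homOfLE (π.preimage_mono (hle.trans j.le))).op).hom b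
    let rV : Γ(X, V) := (X.presheaf.map (homOfLE (hle.trans i.le)).op).hom r
    have hb : bV ^ p = (π.app V).hom rV := by
      have he' := congrArg (X'.presheaf.map (homOfLE (π.preimage_mono hle)).op).hom
        (show (X'.presheaf.map (homOfLE (π.preimage_mono i.le)).op).hom ((π.app W').hom r) =
          (X'.presheaf.map (homOfLE (π.preimage_mono j.le)).op).hom (b ^ p) from he)
      have hres : ∀ {O₁ O₂ O₃ : X'.Opens} (h₁ : O₂ ≤ O₁) (h₂ : O₃ ≤ O₂) (z : Γ(X', O₁)),
          (X'.presheaf.map (homOfLE h₂).op).hom ((X'.presheaf.map (homOfLE h₁).op).hom z) =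
            (X'.presheaf.map (homOfLE (h₂.trans h₁)).op).hom z := fun h₁ h₂ z => by
        rw [← CommRingCat.comp_apply, ← X'.presheaf.map_comp]
        rfl
      rw [hres, hres, map_pow] at he'
      refine he'.symm.trans ?_
      exact (congr($(π.naturality (homOfLE (hle.trans i.le)).op) r)).symm
    obtain ⟨s, r', hs, hsb⟩ := (frob_sections π hX' hU hU' p hp (h x) hV hxV).1 bV rV hb
    let D := X.basicOpen s
    have hD : D ≤ V := X.basicOpen_le s
    obtain ⟨u, hu⟩ : IsUnit ((X.presheaf.map (homOfLE hD).op).hom s) := RingedSpace.isUnit_res_basicOpen X.toRingedSpace s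
    have hbD : (X'.presheaf.map (homOfLE (π.preimage_mono hD)).op).hom bV =
        (π.app D).hom (↑u⁻¹ * (X.presheaf.map (homOfLE hD).op).hom r') := by
      have h1 := congrArg (X'.presheaf.map (homOfLE (π.preimage_mono hD)).op).hom hsb
      have hn : ∀ a, (X'.presheaf.map (homOfLE (π.preimage_mono hD)).op).hom ((π.app V).hom a) =
          (π.app D).hom ((X.presheaf.map (homOfLE hD).op).hom a) := fun a =>
        (congr($(π.naturality (homOfLE hD).op) a)).symm
      rw [map_mul, hn, hn] at h1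
      rw [map_mul, ← h1, ← mul_assoc, ← map_mul, show (X.presheaf.map (homOfLE hD).op).hom s = ↑u from hu.symm,
        Units.inv_mul, map_one, one_mul]
    have e := congrArg ((stF (X := X.toTopCat) x).map c) (congrArg (TopCat.Presheaf.germ B.obj D x hs) hbD)
    rw [hkill] at e
    refine Eq.trans (congrArg _ ?_) e
    exact ((TopCat.Presheaf.germ_res_apply B.obj (homOfLE hD) x hs _).trans
      (TopCat.Presheaf.germ_res_apply B.obj (homOfLE (hle.trans j.le)) x hxV b)).symm
  · obtain ⟨V, hxV, b, hV, -, rfl⟩ := hlift v ⊤ trivial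
    obtain ⟨s₀, s₁, cc, r, h0, h1, heq⟩ := (frob_sections π hX' hU hU' p hp (h x) hV hxV).2 b
    let D := X.basicOpen s₀ ⊓ X.basicOpen s₁
    have hxD : x ∈ D := ⟨h0, h1⟩
    have hD : D ≤ V := inf_le_left.trans (X.basicOpen_le s₀)
    let res := (X.presheaf.map (homOfLE hD).op).hom
    let res' := (X'.presheaf.map (homOfLE (π.preimage_mono hD)).op).hom
    have hu : ∀ s, D ≤ X.basicOpen s → IsUnit (res s) := fun s hs => by
      have h2 := (RingedSpace.isUnit_res_basicOpen X.toRingedSpace s).map (X.presheaf.map (homOfLE hs).op).hom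
      show IsUnit ((X.presheaf.map (homOfLE hD).op).hom s)
      rw [show (homOfLE hD).op = (homOfLE (X.basicOpen_le s)).op ≫ (homOfLE hs).op from rfl, Functor.map_comp]
      exact h2
    obtain ⟨u₀, hu₀⟩ := hu s₀ inf_le_left
    obtain ⟨u₁, hu₁⟩ := hu s₁ inf_le_right
    have hn : ∀ a, res' ((π.app V).hom a) = (π.app D).hom (res a) := fun a =>
      (congr($(π.naturality (homOfLE hD).op) a)).symm
    have hbD : res' b = (res' cc * (π.app D).hom ↑u₀⁻¹) ^ p + (π.app D).hom (↑u₁⁻¹ * res r) := by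
      have e := congrArg res' heq
      simp only [map_mul, map_add, map_pow, hn, ← hu₀, ← hu₁] at e
      refine (IsUnit.mul_left_cancel (((u₀.isUnit.map (π.app D).hom).pow p).mul (u₁.isUnit.map (π.app D).hom)) ?_)
      rw [e]
      simp only [map_mul, mul_pow]
      have a0 : (π.app D).hom ↑u₀ ^ p * (π.app D).hom ↑u₀⁻¹ ^ p = 1 := by
        rw [← mul_pow, ← map_mul, Units.mul_inv, map_one, one_pow]
      have a1 : (π.app D).hom ↑u₁ * (π.app D).hom ↑u₁⁻¹ = 1 := by
        rw [← map_mul, Units.mul_inv, map_one]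
      linear_combination -((π.app D).hom ↑u₁ * res' cc ^ p) * a0 - ((π.app D).hom ↑u₀ ^ p * (π.app D).hom (res r)) * a1
    refine ⟨((stF (X := X.toTopCat) x).map c) (TopCat.Presheaf.germ B.obj D x hxD (res' cc * (π.app D).hom ↑u₀⁻¹)), ?_⟩
    rw [hqc]
    have e := congrArg ((stF (X := X.toTopCat) x).map c) ((TopCat.Presheaf.germ_res_apply B.obj (homOfLE hD) x hxD b).symm.trans
      (congrArg (TopCat.Presheaf.germ B.obj D x hxD) hbD))
    refine Eq.trans ?_ e.symm
    erw [map_add, map_add, hkill]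
    exact (add_zero _).symm

end Groth.L21.NodeFrob
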