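import Groth.Agent.L21.NodeFrob.Local

/-!
Frobenius on local sections of `π_* O'` modulo `O`.
-/

set_option autoImplicit false
set_option linter.style.haveILetI false
set_option backward.isDefEq.respectTransparency false

universe u

open AlgebraicGeometry CategoryTheory CategoryTheory.Limits TopologicalSpace IsLocalRing

noncomputable section

namespace Groth.L21.NodeFrob

variable {X X' : Scheme.{u}} (π : X' ⟶ X) [IsFinite π] [IsLocallyNoetherian X] [IsReduced X]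
  (hX' : Pi1.IsNormalScheme X') {U : X.Opens}
  (hU : Dense (U : Set X)) (hU' : Dense ((π ⁻¹ᵁ U : X'.Opens) : Set X')) [IsIso (π ∣_ U)]

set_option maxHeartbeats 1600000 in
include hX' hU hU' in
/-- Frobenius modulo `O` on sections over an affine open, up to localisation at a point. -/
theorem frob_sections (p : ℕ) (hp : p ≠ 0) {x : X} (h : FrobBij p (X.presheaf.stalk x)
      (integralClosure (X.presheaf.stalk x) (FractionRing (X.presheaf.stalk x))))
    {V : X.Opens} (hV : IsAffineOpen V) (hxV : x ∈ V) :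
    (∀ (b : Γ(X', π ⁻¹ᵁ V)) (r : Γ(X, V)), b ^ p = (π.app V).hom r →
      ∃ s r', x ∈ X.basicOpen s ∧ (π.app V).hom s * b = (π.app V).hom r') ∧
    ∀ b : Γ(X', π ⁻¹ᵁ V), ∃ (s₀ s₁ : Γ(X, V)) (c : Γ(X', π ⁻¹ᵁ V)) (r : Γ(X, V)),
      x ∈ X.basicOpen s₀ ∧ x ∈ X.basicOpen s₁ ∧
        (π.app V).hom (s₀ ^ p * s₁) * b = (π.app V).hom s₁ * c ^ p + (π.app V).hom (s₀ ^ p * r) := by
  obtain ⟨f, hfU, hfR, hfB⟩ := Groth.L21.NormRed.exists_regular π hX' hU hU' hV
  letI algAB : Algebra Γ(X, V) Γ(X', π ⁻¹ᵁ V) := (π.app V).hom.toAlgebra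
  haveI : Module.Finite Γ(X, V) Γ(X', π ⁻¹ᵁ V) := π.finite_app V hV
  have hV' : IsAffineOpen (π ⁻¹ᵁ V) := hV.preimage π
  let P := (hV.primeIdealOf ⟨x, hxV⟩).asIdeal
  letI algAO : Algebra Γ(X, V) (X.presheaf.stalk x) :=
    TopCat.Presheaf.algebra_section_stalk X.presheaf ⟨x, hxV⟩
  haveI hlocO : IsLocalization.AtPrime (X.presheaf.stalk x) P := hV.isLocalization_stalk ⟨x, hxV⟩
  have hmem : ∀ s : P.primeCompl, x ∈ X.basicOpen (s : Γ(X, V)) := fun s =>
    (X.mem_basicOpen (s : Γ(X, V)) x hxV).2 (IsLocalization.map_units (X.presheaf.stalk x) s)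
  have hnorm : ∀ (Q : Ideal Γ(X', π ⁻¹ᵁ V)) [Q.IsPrime], IsDomain (Localization.AtPrime Q) ∧
      IsIntegrallyClosed (Localization.AtPrime Q) := fun Q _ => by
    have hy : hV'.fromSpec ⟨Q, inferInstance⟩ ∈ π ⁻¹ᵁ V := by
      show _ ∈ ((π ⁻¹ᵁ V : X'.Opens) : Set X')
      rw [← hV'.range_fromSpec]; exact ⟨_, rfl⟩
    letI := TopCat.Presheaf.algebra_section_stalk X'.presheaf ⟨_, hy⟩
    haveI : IsLocalization Q.primeCompl (X'.presheaf.stalk (hV'.fromSpec ⟨Q, inferInstance⟩)) :=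
      hV'.isLocalization_stalk' ⟨Q, inferInstance⟩ hy
    let e := (IsLocalization.algEquiv Q.primeCompl (X'.presheaf.stalk (hV'.fromSpec ⟨Q, inferInstance⟩))
      (Localization.AtPrime Q)).toRingEquiv
    obtain ⟨h1, h2⟩ := hX' (hV'.fromSpec ⟨Q, inferInstance⟩)
    exact ⟨e.symm.toMulEquiv.isDomain, IsIntegrallyClosed.of_equiv e⟩
  obtain ⟨ι, hι, hι1⟩ := Groth.L21.NormRed.exists_isLocalizedModule_integralClosure P (X.presheaf.stalk x) f
    hfR hfB (Groth.L21.NormRed.app_injective π hU V) (Groth.L21.NormRed.exists_pow_mul_eq π hV f hfU hfB) hnorm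
  haveI := hι
  let N := integralClosure (X.presheaf.stalk x) (FractionRing (X.presheaf.stalk x))
  let g : Γ(X, V) →+* N := (algebraMap (X.presheaf.stalk x) N).comp (algebraMap Γ(X, V) (X.presheaf.stalk x))
  have hsmul : ∀ (a : Γ(X, V)) (z : N), a • z = g a * z := fun a z => by
    rw [← algebraMap_smul (X.presheaf.stalk x) a z, Algebra.smul_def]
    rfl
  have hιmul : ∀ a b, ι (algebraMap Γ(X, V) Γ(X', π ⁻¹ᵁ V) a * b) = g a * ι b := fun a b => by
    rw [← Algebra.smul_def, map_smul, hsmul]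
  have hιg : ∀ a, ι (algebraMap Γ(X, V) Γ(X', π ⁻¹ᵁ V) a) = g a := fun a => by
    rw [← mul_one (algebraMap Γ(X, V) Γ(X', π ⁻¹ᵁ V) a), hιmul, hι1, mul_one]
  -- `ι` is multiplicative, as `f` is invertible in the fraction ring
  have hι2 : ∀ b b', ι (b * b') = ι b * ι b' := fun b b' => by
    obtain ⟨m, r, hm⟩ := Groth.L21.NormRed.exists_pow_mul_eq π hV f hfU hfB b
    have hb : ι (algebraMap Γ(X, V) Γ(X', π ⁻¹ᵁ V) (f ^ m) * b) = g r := by
      rw [map_pow, show algebraMap Γ(X, V) Γ(X', π ⁻¹ᵁ V) f ^ m * b = algebraMap Γ(X, V) Γ(X', π ⁻¹ᵁ V) r from hm,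
        hιg]
    have hu : IsUnit ((g f : N) : FractionRing (X.presheaf.stalk x)) :=
      IsLocalization.map_units (FractionRing (X.presheaf.stalk x))
        (⟨algebraMap Γ(X, V) (X.presheaf.stalk x) f,
          IsLocalization.map_nonZeroDivisors_le P.primeCompl (X.presheaf.stalk x) ⟨f, hfR, rfl⟩⟩ :
            nonZeroDivisors (X.presheaf.stalk x))
    have h2 : g (f ^ m) * ι (b * b') = g (f ^ m) * (ι b * ι b') := by
      have hm' : algebraMap Γ(X, V) Γ(X', π ⁻¹ᵁ V) (f ^ m) * b = algebraMap Γ(X, V) Γ(X', π ⁻¹ᵁ V) r := by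
        rw [map_pow]; exact hm
      rw [← hιmul, ← mul_assoc, hm', hιmul, ← mul_assoc, ← hιmul (f ^ m) b, hb]
    refine Subtype.ext ((hu.pow m).mul_left_cancel ?_)
    have h3 := congrArg Subtype.val h2
    simp only [map_pow, MulMemClass.coe_mul, SubmonoidClass.coe_pow] at h3 ⊢
    exact h3
  have hιp : ∀ b, ∀ m : ℕ, ι (b ^ m) = ι b ^ m := fun b m => by
    induction m with
    | zero => rw [pow_zero, pow_zero, hι1]
    | succ m ih => rw [pow_succ, pow_succ, hι2, ih]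
  refine ⟨fun b r hb => ?_, fun b => ?_⟩
  · obtain ⟨a, ha⟩ := h.1 (ι b) ⟨algebraMap Γ(X, V) (X.presheaf.stalk x) r, by
      rw [← hιp, hb]; exact (hιg r).symm⟩
    obtain ⟨⟨r', s⟩, hs⟩ := IsLocalization.surj P.primeCompl a
    have he : ι (algebraMap Γ(X, V) Γ(X', π ⁻¹ᵁ V) s * b) = ι (algebraMap Γ(X, V) Γ(X', π ⁻¹ᵁ V) r') := by
      rw [hιmul, hιg, ← ha]
      show algebraMap (X.presheaf.stalk x) N (algebraMap Γ(X, V) (X.presheaf.stalk x) s) * _ =
        algebraMap (X.presheaf.stalk x) N (algebraMap Γ(X, V) (X.presheaf.stalk x) r')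
      rw [← map_mul, mul_comm, hs]
    obtain ⟨t, ht⟩ := IsLocalizedModule.exists_of_eq (S := P.primeCompl) he
    rw [Submonoid.smul_def, Submonoid.smul_def, Algebra.smul_def, Algebra.smul_def] at ht
    refine ⟨(t : Γ(X, V)) * s, t * r', hmem (t * s), ?_⟩
    simp only [map_mul, mul_assoc]
    exact ht
  · obtain ⟨cN, a, hc⟩ := h.2 (ι b)
    obtain ⟨⟨c, s₀⟩, hs₀⟩ := IsLocalizedModule.surj P.primeCompl ι cN
    rw [Submonoid.smul_def, hsmul] at hs₀
    obtain ⟨⟨r, s₁⟩, hs₁⟩ := IsLocalization.surj P.primeCompl a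
    have hs₁' : g s₁ * algebraMap (X.presheaf.stalk x) N a = g r := by
      show algebraMap (X.presheaf.stalk x) N (algebraMap Γ(X, V) (X.presheaf.stalk x) s₁) * _ =
        algebraMap (X.presheaf.stalk x) N (algebraMap Γ(X, V) (X.presheaf.stalk x) r)
      rw [← map_mul, mul_comm, hs₁]
    let φ := algebraMap Γ(X, V) Γ(X', π ⁻¹ᵁ V)
    have he : ι (φ ((s₀ : Γ(X, V)) ^ p * s₁) * b) = ι (φ s₁ * c ^ p + φ ((s₀ : Γ(X, V)) ^ p * r)) := by
      rw [map_add, hιmul, hιmul, hιg, hιp, ← hs₀, hc, map_mul, map_mul, map_pow, ← hs₁']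
      ring
    obtain ⟨t, ht⟩ := IsLocalizedModule.exists_of_eq (S := P.primeCompl) he
    rw [Submonoid.smul_def, Submonoid.smul_def, Algebra.smul_def, Algebra.smul_def] at ht
    refine ⟨(t : Γ(X, V)) * s₀, s₁, φ t * c, r, hmem (t * s₀), hmem s₁, ?_⟩
    show φ _ * b = φ _ * (φ t * c) ^ p + φ _
    obtain ⟨p, rfl⟩ := Nat.exists_eq_succ_of_ne_zero hp
    simp only [φ, map_mul, map_pow, mul_pow, pow_succ] at ht ⊢
    linear_combination (algebraMap Γ(X, V) Γ(X', π ⁻¹ᵁ V) t) ^ p * ht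

end Groth.L21.NodeFrob
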